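import Mathlib
import Cfsg.Agent.Helper29.Zas.P7

set_option autoImplicit false

namespace Cfsg.Agent.Helper29.Zas.M168

open Cfsg.Agent.Helper29.Zas

instance (priority := low) fact7 : Fact (Nat.Prime 7) := ⟨by norm_num⟩

/-- Tables (on the 8 points `0..6, ∞ = 7`) of the 168 elements of the model group. -/
def T168 : List (List ℕ) := [
  [0, 1, 2, 3, 4, 5, 6, 7],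
  [0, 2, 4, 6, 1, 3, 5, 7],
  [0, 4, 1, 5, 2, 6, 3, 7],
  [1, 2, 3, 4, 5, 6, 0, 7],
  [1, 3, 5, 0, 2, 4, 6, 7],
  [1, 5, 2, 6, 3, 0, 4, 7],
  [2, 3, 4, 5, 6, 0, 1, 7],
  [2, 4, 6, 1, 3, 5, 0, 7],
  [2, 6, 3, 0, 4, 1, 5, 7],
  [3, 4, 5, 6, 0, 1, 2, 7],
  [3, 5, 0, 2, 4, 6, 1, 7],
  [3, 0, 4, 1, 5, 2, 6, 7],
  [4, 5, 6, 0, 1, 2, 3, 7],
  [4, 6, 1, 3, 5, 0, 2, 7],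
  [4, 1, 5, 2, 6, 3, 0, 7],
  [5, 6, 0, 1, 2, 3, 4, 7],
  [5, 0, 2, 4, 6, 1, 3, 7],
  [5, 2, 6, 3, 0, 4, 1, 7],
  [6, 0, 1, 2, 3, 4, 5, 7],
  [6, 1, 3, 5, 0, 2, 4, 7],
  [6, 3, 0, 4, 1, 5, 2, 7],
  [7, 6, 3, 2, 5, 4, 1, 0],
  [7, 3, 5, 1, 6, 2, 4, 0],
  [7, 5, 6, 4, 3, 1, 2, 0],
  [6, 3, 2, 5, 4, 1, 7, 0],
  [6, 2, 4, 7, 3, 5, 1, 0],
  [6, 4, 3, 1, 2, 7, 5, 0],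
  [3, 2, 5, 4, 1, 7, 6, 0],
  [3, 5, 1, 6, 2, 4, 7, 0],
  [3, 1, 2, 7, 5, 6, 4, 0],
  [2, 5, 4, 1, 7, 6, 3, 0],
  [2, 4, 7, 3, 5, 1, 6, 0],
  [2, 7, 5, 6, 4, 3, 1, 0],
  [5, 4, 1, 7, 6, 3, 2, 0],
  [5, 1, 6, 2, 4, 7, 3, 0],
  [5, 6, 4, 3, 1, 2, 7, 0],
  [4, 1, 7, 6, 3, 2, 5, 0],
  [4, 7, 3, 5, 1, 6, 2, 0],
  [4, 3, 1, 2, 7, 5, 6, 0],
  [1, 7, 6, 3, 2, 5, 4, 0],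
  [1, 6, 2, 4, 7, 3, 5, 0],
  [1, 2, 7, 5, 6, 4, 3, 0],
  [7, 0, 4, 3, 6, 5, 2, 1],
  [7, 4, 6, 2, 0, 3, 5, 1],
  [7, 6, 0, 5, 4, 2, 3, 1],
  [0, 4, 3, 6, 5, 2, 7, 1],
  [0, 3, 5, 7, 4, 6, 2, 1],
  [0, 5, 4, 2, 3, 7, 6, 1],
  [4, 3, 6, 5, 2, 7, 0, 1],
  [4, 6, 2, 0, 3, 5, 7, 1],
  [4, 2, 3, 7, 6, 0, 5, 1],
  [3, 6, 5, 2, 7, 0, 4, 1],
  [3, 5, 7, 4, 6, 2, 0, 1],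
  [3, 7, 6, 0, 5, 4, 2, 1],
  [6, 5, 2, 7, 0, 4, 3, 1],
  [6, 2, 0, 3, 5, 7, 4, 1],
  [6, 0, 5, 4, 2, 3, 7, 1],
  [5, 2, 7, 0, 4, 3, 6, 1],
  [5, 7, 4, 6, 2, 0, 3, 1],
  [5, 4, 2, 3, 7, 6, 0, 1],
  [2, 7, 0, 4, 3, 6, 5, 1],
  [2, 0, 3, 5, 7, 4, 6, 1],
  [2, 3, 7, 6, 0, 5, 4, 1],
  [7, 1, 5, 4, 0, 6, 3, 2],
  [7, 5, 0, 3, 1, 4, 6, 2],
  [7, 0, 1, 6, 5, 3, 4, 2],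
  [1, 5, 4, 0, 6, 3, 7, 2],
  [1, 4, 6, 7, 5, 0, 3, 2],
  [1, 6, 5, 3, 4, 7, 0, 2],
  [5, 4, 0, 6, 3, 7, 1, 2],
  [5, 0, 3, 1, 4, 6, 7, 2],
  [5, 3, 4, 7, 0, 1, 6, 2],
  [4, 0, 6, 3, 7, 1, 5, 2],
  [4, 6, 7, 5, 0, 3, 1, 2],
  [4, 7, 0, 1, 6, 5, 3, 2],
  [0, 6, 3, 7, 1, 5, 4, 2],
  [0, 3, 1, 4, 6, 7, 5, 2],
  [0, 1, 6, 5, 3, 4, 7, 2],
  [6, 3, 7, 1, 5, 4, 0, 2],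
  [6, 7, 5, 0, 3, 1, 4, 2],
  [6, 5, 3, 4, 7, 0, 1, 2],
  [3, 7, 1, 5, 4, 0, 6, 2],
  [3, 1, 4, 6, 7, 5, 0, 2],
  [3, 4, 7, 0, 1, 6, 5, 2],
  [7, 2, 6, 5, 1, 0, 4, 3],
  [7, 6, 1, 4, 2, 5, 0, 3],
  [7, 1, 2, 0, 6, 4, 5, 3],
  [2, 6, 5, 1, 0, 4, 7, 3],
  [2, 5, 0, 7, 6, 1, 4, 3],
  [2, 0, 6, 4, 5, 7, 1, 3],
  [6, 5, 1, 0, 4, 7, 2, 3],
  [6, 1, 4, 2, 5, 0, 7, 3],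
  [6, 4, 5, 7, 1, 2, 0, 3],
  [5, 1, 0, 4, 7, 2, 6, 3],
  [5, 0, 7, 6, 1, 4, 2, 3],
  [5, 7, 1, 2, 0, 6, 4, 3],
  [1, 0, 4, 7, 2, 6, 5, 3],
  [1, 4, 2, 5, 0, 7, 6, 3],
  [1, 2, 0, 6, 4, 5, 7, 3],
  [0, 4, 7, 2, 6, 5, 1, 3],
  [0, 7, 6, 1, 4, 2, 5, 3],
  [0, 6, 4, 5, 7, 1, 2, 3],
  [4, 7, 2, 6, 5, 1, 0, 3],
  [4, 2, 5, 0, 7, 6, 1, 3],
  [4, 5, 7, 1, 2, 0, 6, 3],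
  [7, 3, 0, 6, 2, 1, 5, 4],
  [7, 0, 2, 5, 3, 6, 1, 4],
  [7, 2, 3, 1, 0, 5, 6, 4],
  [3, 0, 6, 2, 1, 5, 7, 4],
  [3, 6, 1, 7, 0, 2, 5, 4],
  [3, 1, 0, 5, 6, 7, 2, 4],
  [0, 6, 2, 1, 5, 7, 3, 4],
  [0, 2, 5, 3, 6, 1, 7, 4],
  [0, 5, 6, 7, 2, 3, 1, 4],
  [6, 2, 1, 5, 7, 3, 0, 4],
  [6, 1, 7, 0, 2, 5, 3, 4],
  [6, 7, 2, 3, 1, 0, 5, 4],
  [2, 1, 5, 7, 3, 0, 6, 4],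
  [2, 5, 3, 6, 1, 7, 0, 4],
  [2, 3, 1, 0, 5, 6, 7, 4],
  [1, 5, 7, 3, 0, 6, 2, 4],
  [1, 7, 0, 2, 5, 3, 6, 4],
  [1, 0, 5, 6, 7, 2, 3, 4],
  [5, 7, 3, 0, 6, 2, 1, 4],
  [5, 3, 6, 1, 7, 0, 2, 4],
  [5, 6, 7, 2, 3, 1, 0, 4],
  [7, 4, 1, 0, 3, 2, 6, 5],
  [7, 1, 3, 6, 4, 0, 2, 5],
  [7, 3, 4, 2, 1, 6, 0, 5],
  [4, 1, 0, 3, 2, 6, 7, 5],
  [4, 0, 2, 7, 1, 3, 6, 5],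
  [4, 2, 1, 6, 0, 7, 3, 5],
  [1, 0, 3, 2, 6, 7, 4, 5],
  [1, 3, 6, 4, 0, 2, 7, 5],
  [1, 6, 0, 7, 3, 4, 2, 5],
  [0, 3, 2, 6, 7, 4, 1, 5],
  [0, 2, 7, 1, 3, 6, 4, 5],
  [0, 7, 3, 4, 2, 1, 6, 5],
  [3, 2, 6, 7, 4, 1, 0, 5],
  [3, 6, 4, 0, 2, 7, 1, 5],
  [3, 4, 2, 1, 6, 0, 7, 5],
  [2, 6, 7, 4, 1, 0, 3, 5],
  [2, 7, 1, 3, 6, 4, 0, 5],
  [2, 1, 6, 0, 7, 3, 4, 5],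
  [6, 7, 4, 1, 0, 3, 2, 5],
  [6, 4, 0, 2, 7, 1, 3, 5],
  [6, 0, 7, 3, 4, 2, 1, 5],
  [7, 5, 2, 1, 4, 3, 0, 6],
  [7, 2, 4, 0, 5, 1, 3, 6],
  [7, 4, 5, 3, 2, 0, 1, 6],
  [5, 2, 1, 4, 3, 0, 7, 6],
  [5, 1, 3, 7, 2, 4, 0, 6],
  [5, 3, 2, 0, 1, 7, 4, 6],
  [2, 1, 4, 3, 0, 7, 5, 6],
  [2, 4, 0, 5, 1, 3, 7, 6],
  [2, 0, 1, 7, 4, 5, 3, 6],
  [1, 4, 3, 0, 7, 5, 2, 6],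
  [1, 3, 7, 2, 4, 0, 5, 6],
  [1, 7, 4, 5, 3, 2, 0, 6],
  [4, 3, 0, 7, 5, 2, 1, 6],
  [4, 0, 5, 1, 3, 7, 2, 6],
  [4, 5, 3, 2, 0, 1, 7, 6],
  [3, 0, 7, 5, 2, 1, 4, 6],
  [3, 7, 2, 4, 0, 5, 1, 6],
  [3, 2, 0, 1, 7, 4, 5, 6],
  [0, 7, 5, 2, 1, 4, 3, 6],
  [0, 5, 1, 3, 7, 2, 4, 6],
  [0, 1, 7, 4, 5, 3, 2, 6]]

def idL : List ℕ := [0, 1, 2, 3, 4, 5, 6, 7]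

/-- Composition of tables: `(A ∘ B)`. -/
def compL (A B : List ℕ) : List ℕ := B.map (fun m => look A m)

def powL (A : List ℕ) : ℕ → List ℕ
  | 0 => idL
  | k + 1 => compL (powL A k) A

/-- Tables of the generators and their inverses. -/
def gensL : List (List ℕ) :=
  [[1, 2, 3, 4, 5, 6, 0, 7], [6, 0, 1, 2, 3, 4, 5, 7], [7, 6, 3, 2, 5, 4, 1, 0],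
   [0, 1, 2, 3, 4, 5, 6, 7], [0, 2, 4, 6, 1, 3, 5, 7], [0, 4, 1, 5, 2, 6, 3, 7]]

set_option maxRecDepth 1000000 in
theorem T168_nodup : T168.Nodup := by decide +kernel

theorem T168_len : T168.length = 168 := by decide +kernel

set_option maxRecDepth 1000000 in
theorem gens_closed : ∀ S ∈ gensL, ∀ L ∈ T168, compL S L ∈ T168 := by decide +kernel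

theorem idL_mem : idL ∈ T168 := by decide +kernel

end Cfsg.Agent.Helper29.Zas.M168
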