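import Mathlib
import Cfsg.Agent.Helper29.Zas.M168Klein

set_option autoImplicit false

namespace Cfsg.Agent.Helper29.Zas.M168

open Cfsg.Agent.Helper29.Zas

/-- The normaliser of the Sylow `7`-subgroup generated by `X7`. -/
def N7L : List (List ℕ) :=
  [[0, 1, 2, 3, 4, 5, 6, 7], [0, 2, 4, 6, 1, 3, 5, 7], [0, 4, 1, 5, 2, 6, 3, 7],
   [1, 2, 3, 4, 5, 6, 0, 7], [1, 3, 5, 0, 2, 4, 6, 7], [1, 5, 2, 6, 3, 0, 4, 7],
   [2, 3, 4, 5, 6, 0, 1, 7], [2, 4, 6, 1, 3, 5, 0, 7], [2, 6, 3, 0, 4, 1, 5, 7],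
   [3, 4, 5, 6, 0, 1, 2, 7], [3, 5, 0, 2, 4, 6, 1, 7], [3, 0, 4, 1, 5, 2, 6, 7],
   [4, 5, 6, 0, 1, 2, 3, 7], [4, 6, 1, 3, 5, 0, 2, 7], [4, 1, 5, 2, 6, 3, 0, 7],
   [5, 6, 0, 1, 2, 3, 4, 7], [5, 0, 2, 4, 6, 1, 3, 7], [5, 2, 6, 3, 0, 4, 1, 7],
   [6, 0, 1, 2, 3, 4, 5, 7], [6, 1, 3, 5, 0, 2, 4, 7], [6, 3, 0, 4, 1, 5, 2, 7]]

def CL : List ℕ := [1, 3, 5, 0, 2, 4, 6, 7]
def CiL : List ℕ := [3, 0, 4, 1, 5, 2, 6, 7]
def DL : List ℕ := [3, 5, 0, 2, 4, 6, 1, 7]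
def DiL : List ℕ := [2, 6, 3, 0, 4, 1, 5, 7]

/-- Some words in two tables. -/
def wordsL (X Y : List ℕ) : List (List ℕ) :=
  [Y, compL X Y, compL (compL X X) Y, compL (compL (compL X X) X) Y,
   compL (compL (compL (compL X X) X) X) Y,
   compL (compL (compL (compL X X) Y) Y) Y,
   compL (compL (compL (compL (compL X X) Y) X) Y) Y,
   compL (compL (compL (compL (compL X Y) X) Y) Y) Y]

theorem N7_one : idL ∈ N7L := by decide +kernel
set_option maxRecDepth 1000000 in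
theorem N7_mul : ∀ A ∈ N7L, ∀ B ∈ N7L, compL A B ∈ N7L := by decide +kernel
set_option maxRecDepth 1000000 in
theorem N7_inv : ∀ A ∈ N7L, ∃ B ∈ N7L, compL A B = idL := by decide +kernel
set_option maxRecDepth 1000000 in
theorem N7_sub : ∀ A ∈ N7L, A ∈ T168 := by decide +kernel
set_option maxRecDepth 1000000 in
theorem N7_card : (T168.filter (fun L => decide (L ∈ N7L))).length = 21 := by decide +kernel
theorem N7_nc : ∃ A ∈ N7L, ∃ B ∈ N7L, compL A B ≠ compL B A := by decide +kernel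

set_option maxRecDepth 1000000 in
theorem cover7 : ∀ Y ∈ T168, Y ∈ N7L ∨
    ((wordsL X7 Y).any (fun W => ordL W == 3) = true ∧
      (wordsL X7 Y).any (fun W => ordL W == 4) = true) := by decide +kernel

set_option maxRecDepth 1000000 in
theorem cover7' : ∀ Y ∈ T168, Y ∈ N7L ∨
    ((wordsL X7' Y).any (fun W => ordL W == 3) = true ∧
      (wordsL X7' Y).any (fun W => ordL W == 4) = true) := by decide +kernel

set_option maxRecDepth 1000000 in
theorem conj7 : ∀ L ∈ T168, ordL L = 7 →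
    ∃ Z ∈ T168, compL Z L = compL X7 Z ∨ compL Z L = compL X7' Z := by decide +kernel

theorem CD_inv : compL CiL CL = idL ∧ compL CL CiL = idL ∧ compL DiL DL = idL ∧
    compL DL DiL = idL ∧ CL ∈ T168 ∧ CiL ∈ T168 ∧ DL ∈ T168 ∧ DiL ∈ T168 := by decide +kernel

set_option maxRecDepth 1000000 in
theorem cover3 : ∀ Y ∈ T168, QN V1L (compL (compL CiL Y) CL) = true ∨
    QN V2L (compL (compL DiL Y) DL) = true ∨
    (wordsL R3 Y).any (fun W => ordL W == 7) = true := by decide +kernel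

theorem T0_in_N1 : ∀ A ∈ T0L, QN V1L A = true := by decide +kernel

set_option maxRecDepth 1000000 in
theorem nonconjN : ∀ X ∈ T168, ∃ X' ∈ T168, compL X X' = idL ∧
    ∃ A ∈ T168, QN V1L A = true ∧ QN V2L (compL (compL X A) X') = false := by decide +kernel

end Cfsg.Agent.Helper29.Zas.M168
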